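import Groth.Agent.Calg6.ClosedImmStalk
import Mathlib.RingTheory.DiscreteValuationRing.Basic
import Mathlib.RingTheory.Ideal.AssociatedPrime.Basic

/-! The subscheme without embedded components attached to an effective cycle of regular points of
codimension one. -/

set_option autoImplicit false
set_option linter.style.haveILetI false
set_option linter.unusedSectionVars false

universe u

open CategoryTheory AlgebraicGeometry IsLocalRing TopologicalSpace IntMult

namespace Groth.CycleIdeal

/-- In a discrete valuation ring an ideal with quotient of length `n` is the `n`-th power of the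
maximal ideal. -/
theorem eq_pow_of_length_eq {A : Type*} [CommRing A] [IsDomain A] [IsDiscreteValuationRing A]
    (J : Ideal A) (n : ℕ) (h : Module.length A (A ⧸ J) = n) : J = maximalIdeal A ^ n := by
  obtain rfl | hJ := eq_or_ne J ⊥
  · have h1 := Module.length_le_of_surjective (Submodule.mapQ (⊥ : Ideal A) (maximalIdeal A ^ (n + 1))
      LinearMap.id bot_le) (fun y => by
        obtain ⟨a, rfl⟩ := Submodule.Quotient.mk_surjective _ y
        exact ⟨Submodule.Quotient.mk a, rfl⟩)
    rw [h, IsDiscreteValuationRing.length_quotient_pow_maximalIdeal] at h1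
    exact absurd (ENat.natCast_le_natCast.1 h1) (by omega)
  · obtain ⟨ϖ, hϖ⟩ := IsDiscreteValuationRing.exists_irreducible A
    obtain ⟨m, rfl⟩ := IsDiscreteValuationRing.ideal_eq_span_pow_irreducible hJ hϖ
    rw [← Ideal.span_singleton_pow, ← hϖ.maximalIdeal_eq] at h ⊢
    rw [IsDiscreteValuationRing.length_quotient_pow_maximalIdeal] at h
    rw [ENat.natCast_inj.1 h]

variable {X : Scheme.{u}}

/-- The only generisations of a point with discrete valuation ring are itself and points whose local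
ring is a field. -/
theorem eq_of_specializes {w w' : X}
    (hw : ∃ _ : IsDomain (X.presheaf.stalk w), IsDiscreteValuationRing (X.presheaf.stalk w))
    (hw' : ∃ _ : IsDomain (X.presheaf.stalk w'), IsDiscreteValuationRing (X.presheaf.stalk w'))
    (h : w' ⤳ w) : w' = w := by
  obtain ⟨_, _⟩ := hw
  obtain ⟨_, _⟩ := hw'
  by_cases hq : (Groth.Cycles.genPrime h).asIdeal = ⊥
  · exfalso
    refine IsDiscreteValuationRing.not_a_field (X.presheaf.stalk w') ?_
    letI : Algebra (X.presheaf.stalk w) (X.presheaf.stalk w') :=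
      (X.presheaf.stalkSpecializes h).hom.toAlgebra
    haveI := Groth.Cycles.isLocalization_stalkSpecializes h
    rw [← IsLocalization.AtPrime.map_eq_maximalIdeal (Groth.Cycles.genPrime h).asIdeal
      (X.presheaf.stalk w'), hq, Ideal.map_bot]
  · haveI : (Groth.Cycles.genPrime h).asIdeal.IsPrime := (Groth.Cycles.genPrime h).isPrime
    have hmax := Ideal.IsPrime.isMaximal inferInstance hq
    have e : Groth.Cycles.genPrime h = closedPoint (X.presheaf.stalk w) :=
      PrimeSpectrum.ext (IsLocalRing.eq_maximalIdeal hmax)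
    rw [← Groth.Cycles.fromSpecStalk_genPrime h, e, Scheme.fromSpecStalk_closedPoint]

variable (W : X → ℤ)

/-- The ideal of sections vanishing to the prescribed orders. -/
noncomputable def cycIdeal (U : X.affineOpens) : Ideal Γ(X, U.1) :=
  ⨅ (w : X) (hw : w ∈ U.1),
    (maximalIdeal (X.presheaf.stalk w) ^ (W w).toNat).comap (X.presheaf.germ U.1 w hw).hom

lemma mem_cycIdeal {U : X.affineOpens} {a : Γ(X, U.1)} : a ∈ cycIdeal W U ↔
    ∀ (w : X) (hw : w ∈ U.1), X.presheaf.germ U.1 w hw a ∈
      maximalIdeal (X.presheaf.stalk w) ^ (W w).toNat := by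
  simp [cycIdeal, Submodule.mem_iInf]

lemma pow_toNat_eq_top {w : X} (h : W w = 0) :
    maximalIdeal (X.presheaf.stalk w) ^ (W w).toNat = ⊤ := by
  rw [h, Int.toNat_zero, pow_zero, Ideal.one_eq_top]

variable {W} (hfin : {x | W x ≠ 0}.Finite)
include hfin

/-- A bound for all the orders. -/
lemma exists_bound : ∃ N : ℕ, ∀ w, (W w).toNat ≤ N :=
  ⟨∑ w ∈ hfin.toFinset, (W w).toNat, fun w => by
    by_cases h : W w = 0
    · simp [h]
    · exact Finset.single_le_sum (f := fun w => (W w).toNat) (fun _ _ => Nat.zero_le _)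
        (hfin.mem_toFinset.2 h)⟩

lemma map_cycIdeal (U : X.affineOpens) (f : Γ(X, U.1)) :
    (cycIdeal W U).map (X.presheaf.map (homOfLE <| X.basicOpen_le f).op).hom =
      cycIdeal W (X.affineBasicOpen f) := by
  refine le_antisymm (Ideal.map_le_iff_le_comap.2 fun a ha => ?_) fun b hb => ?_
  · refine (mem_cycIdeal W (U := X.affineBasicOpen f)).2 fun w hw => ?_
    change X.presheaf.germ (X.basicOpen f) w hw (X.presheaf.map (homOfLE <| X.basicOpen_le f).op a) ∈ _
    rw [TopCat.Presheaf.germ_res_apply]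
    exact (mem_cycIdeal W).1 ha w _
  · obtain ⟨N, hN⟩ := exists_bound hfin
    haveI := U.2.isLocalization_basicOpen f
    obtain ⟨⟨a, _, n, rfl⟩, hb'⟩ := IsLocalization.surj (.powers f) (S := Γ(X, X.basicOpen f)) b
    have hb'' : b * X.presheaf.map (homOfLE <| X.basicOpen_le f).op (f ^ n) =
        X.presheaf.map (homOfLE <| X.basicOpen_le f).op a := hb'
    have hmem : f ^ N * a ∈ cycIdeal W U := by
      rw [mem_cycIdeal]
      intro w hw
      by_cases hf : w ∈ X.basicOpen f
      · rw [map_mul]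
        refine Ideal.mul_mem_left _ _ ?_
        have h1 := (mem_cycIdeal W).1 hb w hf
        have h2 := congrArg (X.presheaf.germ (X.basicOpen f) w hf) hb''
        rw [map_mul, TopCat.Presheaf.germ_res_apply, TopCat.Presheaf.germ_res_apply] at h2
        rw [← h2]
        exact Ideal.mul_mem_right _ _ h1
      · rw [map_mul, map_pow]
        refine Ideal.mul_mem_right _ _ (Ideal.pow_le_pow_right (hN w) (Ideal.pow_mem_pow ?_ N))
        exact (IsLocalRing.mem_maximalIdeal _).2 fun hu => hf ((X.mem_basicOpen f w hw).2 hu)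
    have key : X.presheaf.map (homOfLE <| X.basicOpen_le f).op (f ^ (N + n)) * b ∈
        (cycIdeal W U).map (X.presheaf.map (homOfLE <| X.basicOpen_le f).op).hom := by
      have e : X.presheaf.map (homOfLE <| X.basicOpen_le f).op (f ^ (N + n)) * b =
          X.presheaf.map (homOfLE <| X.basicOpen_le f).op (f ^ N * a) := by
        rw [pow_add, map_mul, map_mul, mul_assoc, ← hb'']
        ring
      rw [e]
      exact Ideal.mem_map_of_mem _ hmem
    exact (Ideal.unit_mul_mem_iff_mem _
      (IsLocalization.map_units Γ(X, X.basicOpen f) (⟨f ^ (N + n), _, rfl⟩ : Submonoid.powers f))).1 key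

/-- The ideal sheaf of the cycle. -/
noncomputable def cycSheaf : X.IdealSheafData where
  ideal := cycIdeal W
  map_ideal_basicOpen := map_cycIdeal hfin

/-- The stalks of the ideal sheaf of the cycle. -/
theorem mem_stalkIdeal_cycSheaf {x : X} {b : X.presheaf.stalk x} :
    b ∈ stalkIdeal (cycSheaf hfin) x ↔ ∀ (w : X) (h : w ⤳ x),
      X.presheaf.stalkSpecializes h b ∈ maximalIdeal (X.presheaf.stalk w) ^ (W w).toNat := by
  obtain ⟨U, hx, -⟩ := Groth.Divisors.exists_affine_le x ⊤ trivial
  rw [Groth.ParaFormal.stalkIdeal_eq _ U hx]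
  constructor
  · intro hb w h
    suffices hle : ((cycSheaf hfin).ideal U).map (X.presheaf.germ U.1 x hx).hom ≤
        (maximalIdeal (X.presheaf.stalk w) ^ (W w).toNat).comap (X.presheaf.stalkSpecializes h).hom
      from hle hb
    rw [Ideal.map_le_iff_le_comap, Ideal.comap_comap, Groth.ParaFormal.germ_comp_spec h hx]
    exact fun a ha => (mem_cycIdeal W).1 ha w _
  · intro hb
    let _ := TopCat.Presheaf.algebra_section_stalk X.presheaf ⟨x, hx⟩
    haveI := U.2.isLocalization_stalk ⟨x, hx⟩
    obtain ⟨⟨a, t⟩, hat⟩ := IsLocalization.surj (U.2.primeIdealOf ⟨x, hx⟩).asIdeal.primeCompl b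
    have hat' : b * X.presheaf.germ U.1 x hx t.1 = X.presheaf.germ U.1 x hx a := hat
    have hu : ∀ w : X, ¬ w ⤳ x → ∀ hw : w ∈ U.1, ∃ v : Γ(X, U.1),
        IsUnit (X.presheaf.germ U.1 x hx v) ∧ X.presheaf.germ U.1 w hw v ∈ maximalIdeal _ := by
      intro w h hw
      have hnle : ¬ (U.2.primeIdealOf ⟨w, hw⟩).asIdeal ≤ (U.2.primeIdealOf ⟨x, hx⟩).asIdeal := by
        intro hle
        have h1 : U.2.primeIdealOf ⟨w, hw⟩ ⤳ U.2.primeIdealOf ⟨x, hx⟩ :=
          (PrimeSpectrum.le_iff_specializes _ _).1 hle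
        have h2 := h1.map U.2.fromSpec.continuous
        rw [U.2.fromSpec_primeIdealOf, U.2.fromSpec_primeIdealOf] at h2
        exact h h2
      obtain ⟨v, hvw, hvx⟩ := SetLike.not_le_iff_exists.1 hnle
      refine ⟨v, IsLocalization.map_units (X.presheaf.stalk x)
        (⟨v, hvx⟩ : (U.2.primeIdealOf ⟨x, hx⟩).asIdeal.primeCompl), ?_⟩
      rw [← Groth.ParaFormal.comap_maximal_eq U.2 hw] at hvw
      exact hvw
    classical
    let v : X → Γ(X, U.1) := fun w =>
      if h : (¬ w ⤳ x) ∧ w ∈ U.1 then (hu w h.1 h.2).choose else 1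
    have hv : ∀ w, IsUnit (X.presheaf.germ U.1 x hx (v w)) := fun w => by
      simp only [v]
      split_ifs with h
      · exact (hu w h.1 h.2).choose_spec.1
      · rw [map_one]; exact isUnit_one
    let s : Γ(X, U.1) := ∏ w ∈ hfin.toFinset, v w ^ (W w).toNat
    have hs : IsUnit (X.presheaf.germ U.1 x hx s) := by
      rw [map_prod]
      exact IsUnit.prod_iff.2 fun w _ => by rw [map_pow]; exact (hv w).pow _
    have hmem : s * a ∈ (cycSheaf hfin).ideal U := by
      refine (mem_cycIdeal W).2 fun w hw => ?_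
      by_cases h0 : W w = 0
      · rw [pow_toNat_eq_top W h0]; trivial
      rw [map_mul]
      by_cases h : w ⤳ x
      · refine Ideal.mul_mem_left _ _ ?_
        have e : ∀ c : Γ(X, U.1), X.presheaf.stalkSpecializes h (X.presheaf.germ U.1 x hx c) =
            X.presheaf.germ U.1 w hw c := fun c =>
          RingHom.congr_fun (Groth.ParaFormal.germ_comp_spec h hx) c
        rw [← e, ← hat', map_mul]
        exact Ideal.mul_mem_right _ _ (hb w h)
      · refine Ideal.mul_mem_right _ _ ?_
        simp only [s, map_prod]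
        refine Ideal.mem_of_dvd _ (Finset.dvd_prod_of_mem _ (hfin.mem_toFinset.2 h0)) ?_
        rw [map_pow]
        refine Ideal.pow_mem_pow ?_ _
        simp only [v, dif_pos (And.intro h hw)]
        exact (hu w h hw).choose_spec.2
    have key := Ideal.mem_map_of_mem (X.presheaf.germ U.1 x hx).hom hmem
    rw [show (X.presheaf.germ U.1 x hx).hom (s * a) =
      (X.presheaf.germ U.1 x hx s * X.presheaf.germ U.1 x hx t.1) * b by
        rw [map_mul, mul_assoc, mul_comm _ b, ← hat']] at key
    exact (Ideal.unit_mul_mem_iff_mem _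
      (hs.mul (IsLocalization.map_units (X.presheaf.stalk x) t))).1 key

omit hfin

/-- Points of a closed subscheme are the points where its ideal is proper. -/
theorem mem_range_iff (I : X.IdealSheafData) (x : X) :
    (∃ z : I.subscheme, I.subschemeι z = x) ↔ stalkIdeal I x ≠ ⊤ := by
  constructor
  · rintro ⟨z, rfl⟩ h
    have h1 := Groth.Calg6.ClosedImmStalk.ker_stalkMap_eq I.subschemeι z
    rw [Scheme.IdealSheafData.ker_subschemeι, h] at h1
    exact RingHom.ker_ne_top _ h1
  · intro h
    obtain ⟨U, hx, -⟩ := Groth.Divisors.exists_affine_le x ⊤ trivial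
    have hz : x ∈ X.zeroLocus (U := U.1) (I.ideal U) := by
      rw [Scheme.mem_zeroLocus_iff]
      intro a ha hax
      refine h (Ideal.eq_top_of_isUnit_mem _ ?_ ((X.mem_basicOpen a x hx).1 hax))
      rw [Groth.ParaFormal.stalkIdeal_eq I U hx]
      exact Ideal.mem_map_of_mem _ ha
    have : x ∈ (I.support : Set X) := ((Set.ext_iff.1 (I.coe_support_inter U)) x).2 ⟨hz, hx⟩ |>.1
    rw [← I.range_subschemeι] at this
    exact this

variable [IsLocallyNoetherian X]

/-- The closed subscheme has no embedded point at `z` if the ideal at `z` has no socle. -/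
theorem isAssociated_iff (I : X.IdealSheafData) (z : I.subscheme) :
    IsAssociatedPrime (maximalIdeal (I.subscheme.presheaf.stalk z)) (I.subscheme.presheaf.stalk z) ↔
      ∃ b ∉ stalkIdeal I (I.subschemeι z), ∀ c ∈ maximalIdeal (X.presheaf.stalk (I.subschemeι z)),
        c * b ∈ stalkIdeal I (I.subschemeι z) := by
  haveI : IsLocallyNoetherian I.subscheme := LocallyOfFiniteType.isLocallyNoetherian I.subschemeι
  have hker : ∀ c, I.subschemeι.stalkMap z c = 0 ↔ c ∈ stalkIdeal I (I.subschemeι z) := fun c => by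
    have h1 := Groth.Calg6.ClosedImmStalk.ker_stalkMap_eq I.subschemeι z
    rw [Scheme.IdealSheafData.ker_subschemeι] at h1
    rw [← h1]; exact Iff.rfl
  have hsurj := I.subschemeι.stalkMap_surjective z
  rw [isAssociatedPrime_iff]
  constructor
  · rintro ⟨-, t, ht⟩
    obtain ⟨b, rfl⟩ := hsurj t
    refine ⟨b, fun hb => ?_, fun c hc => ?_⟩
    · have h1 : (1 : I.subscheme.presheaf.stalk z) ∈ maximalIdeal _ := by
        rw [ht, Submodule.mem_colon_singleton, Submodule.mem_bot, one_smul]
        exact (hker b).2 hb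
      exact (Ideal.ne_top_iff_one _).1 (maximalIdeal.isMaximal _).ne_top h1
    · rw [← hker]
      have h1 : I.subschemeι.stalkMap z c ∈ maximalIdeal (I.subscheme.presheaf.stalk z) :=
        (IsLocalRing.mem_maximalIdeal _).2 fun hu =>
          (IsLocalRing.mem_maximalIdeal _).1 hc (isUnit_of_map_unit _ _ hu)
      rw [ht, Submodule.mem_colon_singleton, Submodule.mem_bot, smul_eq_mul] at h1
      rw [map_mul]
      exact h1
  · rintro ⟨b, hb, hb'⟩
    refine ⟨inferInstance, I.subschemeι.stalkMap z b, le_antisymm (fun t ht => ?_) ?_⟩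
    · obtain ⟨c, rfl⟩ := hsurj t
      rw [Submodule.mem_colon_singleton, Submodule.mem_bot, smul_eq_mul, ← map_mul, hker]
      refine hb' c ((IsLocalRing.mem_maximalIdeal _).2 fun hu =>
        (IsLocalRing.mem_maximalIdeal _).1 ht (hu.map _))
    · refine IsLocalRing.le_maximalIdeal fun h => hb ?_
      rw [← hker]
      have h1 : (1 : I.subscheme.presheaf.stalk z) ∈
          (⊥ : Submodule _ (I.subscheme.presheaf.stalk z)).colon {I.subschemeι.stalkMap z b} :=
        h ▸ Submodule.mem_top
      rwa [Submodule.mem_colon_singleton, Submodule.mem_bot, one_smul] at h1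

/-- An element outside `J` stays outside at some generisation where the socle is non-trivial. -/
theorem exists_socle_generisation (J : X.IdealSheafData) {x : X} {b : X.presheaf.stalk x}
    (hb : b ∉ stalkIdeal J x) :
    ∃ (y : X) (h : y ⤳ x), X.presheaf.stalkSpecializes h b ∉ stalkIdeal J y ∧
      ∃ e ∉ stalkIdeal J y, ∀ c ∈ maximalIdeal (X.presheaf.stalk y), c * e ∈ stalkIdeal J y := by
  obtain ⟨Q, hQ, hmax⟩ := set_has_maximal_iff_noetherian.2
    (inferInstance : IsNoetherianRing (X.presheaf.stalk x))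
    {K : Ideal (X.presheaf.stalk x) | ∃ d, d * b ∉ stalkIdeal J x ∧
      K = (stalkIdeal J x).colon {d * b}}
    ⟨_, 1, by rwa [one_mul], rfl⟩
  obtain ⟨d, hd, rfl⟩ := hQ
  have hmem : ∀ r e : X.presheaf.stalk x,
      r ∈ (stalkIdeal J x).colon {e} ↔ r * e ∈ stalkIdeal J x := fun r e => by
    rw [Submodule.mem_colon_singleton, smul_eq_mul]
  haveI hprime : ((stalkIdeal J x).colon {d * b}).IsPrime := by
    refine ⟨fun h => hd ?_, fun {r s} hrs => ?_⟩
    · simpa using (hmem 1 (d * b)).1 (h ▸ Submodule.mem_top)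
    rw [or_iff_not_imp_right]
    intro hs
    rw [hmem] at hs hrs
    have hle : (stalkIdeal J x).colon {d * b} ≤ (stalkIdeal J x).colon {s * d * b} := fun e he => by
      rw [hmem] at he ⊢
      rw [show e * (s * d * b) = s * (e * (d * b)) by ring]
      exact Ideal.mul_mem_left _ _ he
    rw [eq_of_le_of_not_lt hle (hmax _ ⟨s * d, by rwa [mul_assoc], rfl⟩), hmem,
      show r * (s * d * b) = r * s * (d * b) by ring]
    exact hrs
  obtain ⟨y, h, hy⟩ := Groth.ParaFormal.exists_spec_comap_eq x ((stalkIdeal J x).colon {d * b})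
  have he : X.presheaf.stalkSpecializes h (d * b) ∉ stalkIdeal J y := fun hm => by
    rw [← Groth.ParaFormal.stalkIdeal_spec J h] at hm
    obtain ⟨s, hs, hsb⟩ := Groth.ParaFormal.exists_mul_mem h _ _ hm
    rw [← hmem, ← hy] at hsb
    exact (IsLocalRing.mem_maximalIdeal _).1 hsb hs
  refine ⟨y, h, fun hm => he ?_, _, he, fun c hc => ?_⟩
  · rw [map_mul]; exact Ideal.mul_mem_left _ _ hm
  · letI : Algebra (X.presheaf.stalk x) (X.presheaf.stalk y) :=
      (X.presheaf.stalkSpecializes h).hom.toAlgebra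
    haveI := Groth.Cycles.isLocalization_stalkSpecializes h
    rw [← IsLocalization.map_under (Groth.Cycles.genPrime h).asIdeal.primeCompl
      (X.presheaf.stalk y) (maximalIdeal _)] at hc
    revert hc c
    suffices hle : Ideal.map (algebraMap _ _)
        ((maximalIdeal (X.presheaf.stalk y)).comap (algebraMap (X.presheaf.stalk x) _)) ≤
          (stalkIdeal J y).colon {X.presheaf.stalkSpecializes h (d * b)} from fun c hc => by
      have := hle hc
      rwa [Submodule.mem_colon_singleton, smul_eq_mul] at this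
    rw [Ideal.map_le_iff_le_comap]
    intro r hr
    have hr' : r ∈ (stalkIdeal J x).colon {d * b} := hy ▸ hr
    rw [Ideal.mem_comap, Submodule.mem_colon_singleton, smul_eq_mul,
      ← Groth.ParaFormal.stalkIdeal_spec J h]
    have e : algebraMap (X.presheaf.stalk x) (X.presheaf.stalk y) r *
        X.presheaf.stalkSpecializes h (d * b) = X.presheaf.stalkSpecializes h (r * (d * b)) :=
      (map_mul _ _ _).symm
    rw [e]
    exact Ideal.mem_map_of_mem _ ((hmem _ _).1 hr')

/-- Stalk of the ideal sheaf of the cycle at a point of the cycle. -/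
theorem stalkIdeal_of_ne_zero {W : X → ℤ} (hfin : {x | W x ≠ 0}.Finite)
    (hreg : ∀ x, W x ≠ 0 → ∃ _ : IsDomain (X.presheaf.stalk x), IsDiscreteValuationRing (X.presheaf.stalk x))
    {x : X} (hx : W x ≠ 0) :
    stalkIdeal (cycSheaf hfin) x = maximalIdeal (X.presheaf.stalk x) ^ (W x).toNat := by
  ext b
  rw [mem_stalkIdeal_cycSheaf hfin]
  refine ⟨fun h => ?_, fun hb w h => ?_⟩
  · have := h x specializes_rfl
    rwa [TopCat.Presheaf.stalkSpecializes_refl] at this
  · by_cases hw : W w = 0
    · rw [pow_toNat_eq_top W hw]; trivial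
    obtain rfl := eq_of_specializes (hreg x hx) (hreg w hw) h
    rw [TopCat.Presheaf.stalkSpecializes_refl]
    exact hb

/-- The ideal at a point of the cycle is proper. -/
theorem stalkIdeal_ne_top {W : X → ℤ} (hfin : {x | W x ≠ 0}.Finite) (hpos : ∀ x, 0 ≤ W x)
    {x w : X} (h : w ⤳ x) (hw : W w ≠ 0) : stalkIdeal (cycSheaf hfin) x ≠ ⊤ := by
  intro ht
  have h1 := (mem_stalkIdeal_cycSheaf hfin).1 (ht ▸ Submodule.mem_top (x := 1)) w h
  rw [map_one] at h1
  exact (maximalIdeal.isMaximal _).ne_top ((Ideal.eq_top_iff_one _).2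
    (Ideal.pow_le_self (by have := hpos w; omega) h1))

/-- A point of the support of the cycle has a generisation in the cycle. -/
theorem exists_ne_zero_specializes {W : X → ℤ} (hfin : {x | W x ≠ 0}.Finite)
    {x : X} {b : X.presheaf.stalk x} (hb : b ∉ stalkIdeal (cycSheaf hfin) x) :
    ∃ (w : X) (h : w ⤳ x), W w ≠ 0 ∧
      X.presheaf.stalkSpecializes h b ∉ maximalIdeal (X.presheaf.stalk w) ^ (W w).toNat := by
  rw [mem_stalkIdeal_cycSheaf hfin] at hb
  push Not at hb
  obtain ⟨w, h, hw⟩ := hb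
  exact ⟨w, h, fun h0 => hw (by rw [pow_toNat_eq_top W h0]; trivial), hw⟩

/-- Existence and uniqueness of the subscheme without embedded components with given cycle. -/
theorem existsUnique_subscheme {W : X → ℤ} (hfin : {x | W x ≠ 0}.Finite) (hpos : ∀ x, 0 ≤ W x)
    (hreg : ∀ x, W x ≠ 0 → ∃ _ : IsDomain (X.presheaf.stalk x), IsDiscreteValuationRing (X.presheaf.stalk x)) :
    ∃! 𝓘 : X.IdealSheafData,
      (∀ z : ↥𝓘.subscheme,
        IsAssociatedPrime (IsLocalRing.maximalIdeal ↑(𝓘.subscheme.presheaf.stalk z))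
          ↑(𝓘.subscheme.presheaf.stalk z) → ∀ z' : ↥𝓘.subscheme, z' ⤳ z → z' = z) ∧
      (∀ z : ↥𝓘.subscheme, (∀ z' : ↥𝓘.subscheme, z' ⤳ z → z' = z) →
        Module.length ↑(𝓘.subscheme.presheaf.stalk z) ↑(𝓘.subscheme.presheaf.stalk z) =
          ((W (𝓘.subschemeι.base z)).toNat : ℕ∞)) ∧
      (∀ x : X, W x ≠ 0 → ∃ z : ↥𝓘.subscheme, 𝓘.subschemeι.base z = x ∧
        ∀ z' : ↥𝓘.subscheme, z' ⤳ z → z' = z) := by
  let I := cycSheaf hfin
  have hspec : ∀ z z' : I.subscheme, z' ⤳ z ↔ I.subschemeι z' ⤳ I.subschemeι z := fun z z' =>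
    I.subschemeι.isClosedEmbedding.isInducing.specializes_iff.symm
  have hmax : ∀ z : I.subscheme, (∀ z', z' ⤳ z → z' = z) ↔ W (I.subschemeι z) ≠ 0 := by
    intro z
    refine ⟨fun hz => ?_, fun hz z' hz' => ?_⟩
    · obtain ⟨w, h, hw, -⟩ := exists_ne_zero_specializes hfin (b := 1)
        (fun h1 => (mem_range_iff I _).1 ⟨z, rfl⟩ ((Ideal.eq_top_iff_one _).2 h1))
      obtain ⟨z', rfl⟩ := (mem_range_iff I w).2 (stalkIdeal_ne_top hfin hpos specializes_rfl hw)
      rwa [← hz z' ((hspec z z').2 h)]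
    · obtain ⟨w, h, hw, -⟩ := exists_ne_zero_specializes hfin (b := 1)
        (fun h1 => (mem_range_iff I _).1 ⟨z', rfl⟩ ((Ideal.eq_top_iff_one _).2 h1))
      have he := eq_of_specializes (hreg _ hz) (hreg w hw) (h.trans ((hspec z z').1 hz'))
      exact I.subschemeι.isClosedEmbedding.injective
        (((hspec z z').1 hz').antisymm (he ▸ h)).eq
  refine ⟨I, ⟨fun z hz => ?_, fun z hz => ?_, fun x hx => ?_⟩, ?_⟩
  · rw [hmax]
    obtain ⟨b, hb, hb'⟩ := (isAssociated_iff I z).1 hz
    obtain ⟨w, h, hw, hbw⟩ := exists_ne_zero_specializes hfin hb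
    suffices e : w = I.subschemeι z by rwa [← e]
    by_contra hne
    have hnle : ¬ maximalIdeal _ ≤ (Groth.Cycles.genPrime h).asIdeal := fun hle => hne (by
      have e : Groth.Cycles.genPrime h = closedPoint _ := PrimeSpectrum.ext
        (le_antisymm (IsLocalRing.le_maximalIdeal (Groth.Cycles.genPrime h).isPrime.ne_top) hle)
      rw [← Groth.Cycles.fromSpecStalk_genPrime h, e, Scheme.fromSpecStalk_closedPoint])
    obtain ⟨c, hc, hcn⟩ := SetLike.not_le_iff_exists.1 hnle
    have hu : IsUnit (X.presheaf.stalkSpecializes h c) := by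
      by_contra hn
      exact hcn ((IsLocalRing.mem_maximalIdeal _).2 hn)
    have h1 := (mem_stalkIdeal_cycSheaf hfin).1 (hb' c hc) w h
    rw [map_mul] at h1
    exact hbw ((Ideal.unit_mul_mem_iff_mem _ hu).1 h1)
  · have hx := (hmax z).1 hz
    obtain ⟨_, _⟩ := hreg _ hx
    rw [Groth.Calg6.ClosedImmStalk.length_stalk I.subschemeι, Scheme.IdealSheafData.ker_subschemeι,
      stalkIdeal_of_ne_zero hfin hreg hx, IsDiscreteValuationRing.length_quotient_pow_maximalIdeal]
  · obtain ⟨z, rfl⟩ := (mem_range_iff I x).2 (stalkIdeal_ne_top hfin hpos specializes_rfl hx)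
    exact ⟨z, rfl, (hmax z).2 hx⟩
  rintro J ⟨hJ1, hJ2, hJ3⟩
  have hJw : ∀ w, W w ≠ 0 → stalkIdeal J w = maximalIdeal (X.presheaf.stalk w) ^ (W w).toNat := by
    intro w hw
    obtain ⟨z, rfl, hz⟩ := hJ3 w hw
    obtain ⟨_, _⟩ := hreg _ hw
    have hl := hJ2 z hz
    rw [Groth.Calg6.ClosedImmStalk.length_stalk J.subschemeι, Scheme.IdealSheafData.ker_subschemeι] at hl
    exact eq_pow_of_length_eq _ _ hl
  have hJmax : ∀ z : J.subscheme, (∀ z', z' ⤳ z → z' = z) → W (J.subschemeι z) ≠ 0 := by
    intro z hz h0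
    have hl := hJ2 z hz
    rw [h0, Int.toNat_zero, Nat.cast_zero, Module.length_eq_zero_iff] at hl
    exact not_subsingleton _ hl
  refine Groth.ParaFormal.idealSheaf_ext fun x => le_antisymm (fun b hb => ?_) fun b hb => ?_
  · rw [mem_stalkIdeal_cycSheaf hfin]
    intro w h
    by_cases hw : W w = 0
    · rw [pow_toNat_eq_top W hw]; trivial
    · rw [← hJw w hw, ← Groth.ParaFormal.stalkIdeal_spec J h]
      exact Ideal.mem_map_of_mem _ hb
  · by_contra hn
    obtain ⟨y, h, hby, e, he, he'⟩ := exists_socle_generisation J hn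
    obtain ⟨z, rfl⟩ := (mem_range_iff J y).2 fun ht => he (ht ▸ Submodule.mem_top)
    have hy := hJmax z (hJ1 z ((isAssociated_iff J z).2 ⟨e, he, he'⟩))
    refine hby ?_
    rw [hJw _ hy]
    exact (mem_stalkIdeal_cycSheaf hfin).1 hb _ h

end Groth.CycleIdeal
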